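import Groth.Agent.AlgSpCov.ThickTopo
import Groth.Agent.AlgSpB.IdealApprox.ThickScheme
import Mathlib.AlgebraicGeometry.Morphisms.Integral
import Mathlib.AlgebraicGeometry.Morphisms.ClosedImmersion

/-!
# Representable, affine and integral morphisms under thickenings
-/

set_option autoImplicit false
set_option backward.isDefEq.respectTransparency false

universe u

open CategoryTheory CategoryTheory.Limits AlgebraicGeometry

namespace Groth.Agent.AlgSpCov.ThickRep

open Groth.Agent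
open _root_.AlgSp

variable {S : Scheme.{u}}

/-- A thickening into a scheme is a thickening of schemes. -/
theorem exists_source_scheme {Z₀ : Sp S} {T : Over S} {z : Z₀ ⟶ (yon S).obj T} (hz : IsThickMor z) :
    ∃ (W : Over S) (c : W ⟶ T) (e : (yon S).obj W ≅ Z₀), e.hom ≫ z = (yon S).map c ∧
      IsClosedImmersion c.left ∧ Surjective c.left := by
  obtain ⟨W, snd, fst, sq⟩ := hz.1 (𝟙 _)
  have := sq.isIso_fst_of_isIso
  exact ⟨W, snd, asIso fst, by simpa using sq.w, (hz.2 _ _ snd sq).1, (hz.2 _ _ snd sq).2⟩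

/-- The target of a thickening out of an affine scheme is an affine scheme. -/
theorem exists_target_affine {P' : Space S} {W : Over S} [IsAffine W.left] {k : (yon S).obj W ⟶ P'.obj}
    (hk : IsThickMor k) : ∃ T : Over S, IsAffine T.left ∧ Nonempty ((yon S).obj T ≅ P'.obj) :=
  AlgSpB.IdealApprox.exists_affine_of_thick' P' k (ThickTopo.repWith_closed_of_thick hk)
    ⟨hk.1, fun _ _ g fst snd sq => (hk.2 g fst snd sq).2⟩

theorem isIntegralHom_of_surjective_comp {A B C : Scheme.{u}} (c : A ⟶ B) (i : B ⟶ C) [Surjective c]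
    [IsAffine B] [IsAffine C] [IsIntegralHom (c ≫ i)] : IsIntegralHom i := by
  have : UniversallyClosed (c ≫ i) := inferInstance
  exact IsIntegralHom.iff_universallyClosed_and_isAffineHom.2
    ⟨UniversallyClosed.of_comp_surjective c i, inferInstance⟩

variable {X X' Y Y' : Space S} (i : X ⟶ X') (j : Y ⟶ Y') (f : X ⟶ Y) (f' : X' ⟶ Y')
  (hi : IsThickMor i.hom) (hj : IsThickMor j.hom) (w : i.hom ≫ f'.hom = f.hom ≫ j.hom)

include hi hj w

/-- The square above a morphism from a scheme to `Y'`. -/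
theorem exists_square {T : Over S} (g : (yon S).obj T ⟶ Y'.obj) :
    ∃ (T₀ : Over S) (c : T₀ ⟶ T) (g₀ : (yon S).obj T₀ ⟶ Y.obj) (P P' : Sp S) (fst₀ : P ⟶ X.obj)
      (snd₀ : P ⟶ (yon S).obj T₀) (fst : P' ⟶ X'.obj) (snd : P' ⟶ (yon S).obj T) (k : P ⟶ P'),
      IsAlgSpace P' ∧ IsClosedImmersion c.left ∧ Surjective c.left ∧ IsPullback fst₀ snd₀ f.hom g₀ ∧
      IsPullback fst snd f'.hom g ∧ IsThickMor k ∧ k ≫ snd = snd₀ ≫ (yon S).map c := by
  have sq := IsPullback.of_hasPullback f'.hom g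
  obtain ⟨Z₀, P, z, g₀, k, fst₀, snd₀, -, -, sq₀, hz, hk, -, -, hc⟩ := ThickTopo.exists_bc_of_thick X.property
    X'.property Y.property Y'.property hi hj w (IsAlgSpace.yon_obj T) g sq
  obtain ⟨T₀, c, e, he, hc1, hc2⟩ := exists_source_scheme hz
  refine ⟨T₀, c, e.hom ≫ g₀, P, _, fst₀, snd₀ ≫ e.inv, _, _, k,
    Groth.Agent.AlgSp.isAlgSpace_pullback Y'.property X'.property (IsAlgSpace.yon_obj T) _ _, hc1, hc2,
    IsPullback.of_iso sq₀ (Iso.refl _) (Iso.refl _) e.symm (Iso.refl _) (by simp) (by simp) (by simp) (by simp),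
    sq, hk, ?_⟩
  rw [hc, Category.assoc, ← he, e.inv_hom_id_assoc]

theorem representable_iff : Representable f.hom ↔ Representable f'.hom := by
  constructor
  · intro h T g
    obtain ⟨T₀, c, g₀, P, P', fst₀, snd₀, fst, snd, k, hP', -, -, sq₀, sq, hk, -⟩ := exists_square i j f f' hi hj w g
    obtain ⟨W, sW, fW, sqW⟩ := h g₀
    obtain ⟨W', ⟨e⟩⟩ := AlgSpB.IdealApprox.exists_iso_yon_of_thick (X := ⟨P, Groth.Agent.AlgSp.isAlgSpace_of_isPullback'
      Y.property X.property (IsAlgSpace.yon_obj T₀) sq₀⟩) (X' := ⟨P', hP'⟩) (ObjectProperty.homMk k) hk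
      (sqW.isoIsPullback _ _ sq₀)
    obtain ⟨s, hs⟩ := (yon S).map_surjective (e.hom ≫ snd)
    exact ⟨W', s, e.hom ≫ fst, IsPullback.of_iso sq e.symm (Iso.refl _) (Iso.refl _) (Iso.refl _)
      (by simp) (by simp [hs]) (by simp) (by simp)⟩
  · intro h T g
    have sq := IsPullback.of_hasPullback f.hom g
    obtain ⟨P', fst', snd', k, -, sq', hk, -, hk'⟩ := ThickTopo.exists_bc_of_thick' X.property X'.property
      Y.property Y'.property hi hj w (IsAlgSpace.yon_obj T) g sq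
    obtain ⟨W', sW', fW', sqW'⟩ := h (g ≫ j.hom)
    let e := sqW'.isoIsPullback _ _ sq'
    obtain ⟨W, c, e', he', -, -⟩ := exists_source_scheme (z := k ≫ e.inv)
      ((MorphismProperty.cancel_right_of_respectsIso (P := RepWith thick) k e.inv).2 hk)
    obtain ⟨s, hs⟩ := (yon S).map_surjective (e'.hom ≫ pullback.snd f.hom g)
    exact ⟨W, s, e'.hom ≫ pullback.fst f.hom g, IsPullback.of_iso sq e'.symm (Iso.refl _) (Iso.refl _) (Iso.refl _)
      (by simp) (by simp [hs]) (by simp) (by simp)⟩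

theorem affine_integral_iff :
    (IsAffineMor f.hom ↔ IsAffineMor f'.hom) ∧ (IsIntegralMor f.hom ↔ IsIntegralMor f'.hom) := by
  have fwd : ∀ {T : Over S}, IsAffine T.left → ∀ (g : (yon S).obj T ⟶ Y'.obj),
      ∃ (T₀ : Over S) (c : T₀ ⟶ T) (g₀ : (yon S).obj T₀ ⟶ Y.obj), IsAffine T₀.left ∧ IsClosedImmersion c.left ∧
        ∀ (W : Over S) (s : W ⟶ T₀) (fW : (yon S).obj W ⟶ X.obj), IsAffine W.left →
          IsPullback fW ((yon S).map s) f.hom g₀ →
          ∃ (W' : Over S) (s' : W' ⟶ T) (fW' : (yon S).obj W' ⟶ X'.obj), IsAffine W'.left ∧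
            IsPullback fW' ((yon S).map s') f'.hom g ∧
            (IsIntegralHom s.left → IsIntegralHom s'.left) := by
    intro T hT g
    obtain ⟨T₀, c, g₀, P, P', fst₀, snd₀, fst, snd, k, hP', hc1, hc2, sq₀, sq, hk, hkc⟩ := exists_square i j f f' hi hj w g
    refine ⟨T₀, c, g₀, isAffine_of_isAffineHom c.left, hc1, fun W s fW hW sqW => ?_⟩
    let e₀ := sqW.isoIsPullback _ _ sq₀
    have hk' : IsThickMor (e₀.hom ≫ k) := (MorphismProperty.cancel_left_of_respectsIso (P := RepWith thick) e₀.hom k).2 hk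
    obtain ⟨W', hW', ⟨e⟩⟩ := exists_target_affine (P' := ⟨P', hP'⟩) hk'
    obtain ⟨s', hs'⟩ := (yon S).map_surjective (e.hom ≫ snd)
    refine ⟨W', s', e.hom ≫ fst, hW', IsPullback.of_iso sq e.symm (Iso.refl _) (Iso.refl _) (Iso.refl _)
      (by simp) (by simp [hs']) (by simp) (by simp), fun hs => ?_⟩
    obtain ⟨d, hd⟩ := (yon S).map_surjective (e₀.hom ≫ k ≫ e.inv)
    have hdt : IsThickMor ((yon S).map d) := by
      rw [hd, ← Category.assoc]
      exact (MorphismProperty.cancel_right_of_respectsIso (P := RepWith thick) _ e.inv).2 hk'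
    obtain ⟨-, hd2⟩ := (repWith_yon_map_iff (P := thick) d).1 hdt
    have e2 : d ≫ s' = s ≫ c := (yon S).map_injective (by
      rw [Functor.map_comp, Functor.map_comp, hd, hs', Category.assoc, Category.assoc, e.inv_hom_id_assoc, hkc,
        ← Category.assoc, sqW.isoIsPullback_hom_snd _ _ sq₀])
    have : IsIntegralHom (d.left ≫ s'.left) := by
      rw [← Over.comp_left, e2, Over.comp_left]; infer_instance
    exact isIntegralHom_of_surjective_comp d.left s'.left
  have bwd : ∀ {T : Over S}, IsAffine T.left → ∀ (g : (yon S).obj T ⟶ Y.obj)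
      (W' : Over S) (s' : W' ⟶ T) (fW' : (yon S).obj W' ⟶ X'.obj), IsAffine W'.left →
        IsPullback fW' ((yon S).map s') f'.hom (g ≫ j.hom) →
        ∃ (W : Over S) (s : W ⟶ T) (fW : (yon S).obj W ⟶ X.obj), IsPullback fW ((yon S).map s) f.hom g ∧
          IsAffine W.left ∧ (IsIntegralHom s'.left → IsIntegralHom s.left) := by
    intro T hT g W' s' fW' hW' sqW'
    have sq := IsPullback.of_hasPullback f.hom g
    obtain ⟨P', fst', snd', k, -, sq', hk, -, hk'⟩ := ThickTopo.exists_bc_of_thick' X.property X'.property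
      Y.property Y'.property hi hj w (IsAlgSpace.yon_obj T) g sq
    let e := sqW'.isoIsPullback _ _ sq'
    obtain ⟨W, c, e', he', hc1, -⟩ := exists_source_scheme (z := k ≫ e.inv)
      ((MorphismProperty.cancel_right_of_respectsIso (P := RepWith thick) k e.inv).2 hk)
    have hsc : (yon S).map (c ≫ s') = e'.hom ≫ pullback.snd f.hom g := by
      rw [Functor.map_comp, ← he', Category.assoc, Category.assoc, sqW'.isoIsPullback_inv_snd _ _ sq', hk']
    refine ⟨W, c ≫ s', e'.hom ≫ pullback.fst f.hom g, IsPullback.of_iso sq e'.symm (Iso.refl _) (Iso.refl _) (Iso.refl _)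
      (by simp) (by simp [hsc]) (by simp) (by simp), isAffine_of_isAffineHom c.left, fun hs => ?_⟩
    rw [Over.comp_left]
    infer_instance
  refine ⟨⟨fun h T hT g => ?_, fun h T hT g => ?_⟩, ⟨fun h T hT g => ?_, fun h T hT g => ?_⟩⟩
  · obtain ⟨T₀, c, g₀, hT₀, -, H⟩ := fwd hT g
    obtain ⟨W, s, fW, sqW, hW⟩ := h hT₀ g₀
    obtain ⟨W', s', fW', hW', sq', -⟩ := H W s fW hW sqW
    exact ⟨W', s', fW', sq', hW'⟩
  · obtain ⟨W', s', fW', sq', hW'⟩ := h hT (g ≫ j.hom)
    obtain ⟨W, s, fW, sqW, hW, -⟩ := bwd hT g W' s' fW' hW' sq'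
    exact ⟨W, s, fW, sqW, hW⟩
  · obtain ⟨T₀, c, g₀, hT₀, -, H⟩ := fwd hT g
    obtain ⟨W, s, fW, sqW, hW, hs⟩ := h hT₀ g₀
    obtain ⟨W', s', fW', hW', sq', hs'⟩ := H W s fW hW sqW
    exact ⟨W', s', fW', sq', hW', hs' hs⟩
  · obtain ⟨W', s', fW', sq', hW', hs'⟩ := h hT (g ≫ j.hom)
    obtain ⟨W, s, fW, sqW, hW, hs⟩ := bwd hT g W' s' fW' hW' sq'
    exact ⟨W, s, fW, sqW, hW, hs hs'⟩

end Groth.Agent.AlgSpCov.ThickRep
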